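import Cfsg.Agent.H234.HT.ExcDefs
import Cfsg.Agent.H755.PQ.Tor
import Cfsg.Agent.H83.RootCount

/-!
# S4933, part (O): elements of twisted tori and their eigenvalues (helper406)

`Setup hp cs p e σ g e0 d` (`H630/ExcA`), `θ = ε w₁` (`HasTor`), `w₁ ^ n = 1`, `Q = ε p ^ e`, `r ^ m ∣ Q ^ n - 1`.

* `cnt_of_mod`, `cnt_of_pow` : the first criterion of `Cnt` from the count modulo `p`, `p ^ a`;
* `exists_eig`, `exists_eig'` : for every functional `L` of the root lattice there is `x ∈ X` with eigenvalues `ζ ^ ex i`, `ex = 0` on the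
  Cartan part and `ex ≡ 2 psi L` modulo `r` on the roots;
* `exists_cnt` : the same with `Cnt`.
-/

set_option autoImplicit false
set_option linter.unusedSectionVars false

namespace Cfsg.Agent.H406.HT

open CoxeterSystem Cfsg Cfsg.Lie Cfsg.Lie.ChevalleyDatum
open Cfsg.Agent.ChevalleyStructure Cfsg.Agent.ChevalleyStructure.Elts Cfsg.Agent.ChevalleyStructure.CoxeterGeom
  Cfsg.Agent.ChevalleyStructure.CoxeterGeomTypes Cfsg.Agent.ChevalleyStructure.NPerm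
open Cfsg.Agent.Tits.Roots Cfsg.Agent.Tits.Core Cfsg.Agent.Nodes Cfsg.Agent.Nodes.Reps Cfsg.Agent.Nodes.BNOf
  Cfsg.Agent.Nodes.RGDChev Cfsg.Agent.Nodes.Bruhat Cfsg.Agent.Nodes.SubComb Cfsg.Agent.Nodes.Coroot
open Cfsg.Agent.KFacts.RgdField Cfsg.Agent.KFacts.RgdChevCoord Cfsg.Agent.BpExc.TorCent Cfsg.Agent.BpExc.TorChev
open Cfsg.Agent.GpExc.Field Cfsg.Agent.BpExc.Tow Cfsg.Agent.BpExc.TowChev Cfsg.Agent.BpExc.Fr
  Cfsg.Agent.BpExc.LangFr Cfsg.Agent.LangThm Cfsg.Agent.BpExc Cfsg.Agent.H129.TorusChar Cfsg.Agent.H129.TorusMain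
open Cfsg.Agent.H630.Exc Cfsg.Agent.H234.HT

universe u v

/-- **The first criterion from the count modulo `p ^ a`.** -/
theorem cnt_of_pow {p m a : ℕ} (hp : p.Prime) (ha0 : a ≠ 0) (ha : a < m) {ι : Type*} [Fintype ι] {ex : ι → ℕ} {c : ℕ}
    (hc : ¬ p ∣ c) (h : ¬ p ∣ Nat.card {i : ι // ex i % p ^ a = c % p ^ a}) : Cnt p m ex := by
  classical
  by_contra hcon
  apply h
  have hM : p ^ a ∣ p ^ (m - 1) := pow_dvd_pow p (by omega)
  have hpa : p ∣ p ^ a := dvd_pow_self p ha0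
  have hM0 : 0 < p ^ (m - 1) := pow_pos hp.pos _
  rw [Nat.card_eq_fintype_card, Fintype.card_subtype]
  have h1 : (Finset.univ.filter fun i => ex i % p ^ a = c % p ^ a).card =
      ∑ r ∈ (Finset.range (p ^ (m - 1))).filter (fun r : ℕ => r % p ^ a = c % p ^ a),
        (Finset.univ.filter fun i => ex i % p ^ (m - 1) = r % p ^ (m - 1)).card := by
    rw [Finset.card_eq_sum_card_fiberwise (f := fun i => ex i % p ^ (m - 1))
      (t := (Finset.range (p ^ (m - 1))).filter (fun r : ℕ => r % p ^ a = c % p ^ a))]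
    · refine Finset.sum_congr rfl fun r hr => ?_
      congr 1
      ext i
      simp only [Finset.mem_filter, Finset.mem_univ, true_and, Finset.mem_range] at hr ⊢
      rw [Nat.mod_eq_of_lt hr.1]
      constructor
      · exact fun h => h.2
      · intro h
        refine ⟨?_, h⟩
        rw [← hr.2, ← h, Nat.mod_mod_of_dvd _ hM]
    · intro i hi
      simp only [Finset.coe_filter, Finset.mem_univ, true_and, Finset.mem_range, Set.mem_ofPred_eq] at hi ⊢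
      refine ⟨Nat.mod_lt _ hM0, ?_⟩
      rw [← hi, Nat.mod_mod_of_dvd _ hM]
  rw [h1]
  refine Finset.dvd_sum fun r hr => ?_
  by_contra h2
  apply hcon
  refine ⟨r, ?_, Or.inl h2⟩
  intro h3
  apply hc
  have h4 := (Finset.mem_filter.1 hr).2
  have h5 : r % p = c % p := by
    rw [← Nat.mod_mod_of_dvd r hpa, ← Nat.mod_mod_of_dvd c hpa, h4]
  exact Nat.dvd_of_mod_eq_zero (by rw [← h5]; exact Nat.mod_eq_zero_of_dvd h3)

/-- **The first criterion from the count modulo `p`.** -/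
theorem cnt_of_mod {p m : ℕ} (hp : p.Prime) (hm : 2 ≤ m) {ι : Type*} [Fintype ι] {ex : ι → ℕ} {c : ZMod p}
    (hc : c ≠ 0) (h : ¬ p ∣ Nat.card {i : ι // ((ex i : ℕ) : ZMod p) = c}) : Cnt p m ex := by
  have : NeZero p := ⟨hp.pos.ne'⟩
  refine cnt_of_pow hp one_ne_zero (by omega) (c := c.val) (fun h0 => hc ?_) ?_
  · rw [← ZMod.natCast_zmod_val c]
    exact (ZMod.natCast_eq_zero_iff _ _).2 h0
  · have h1 : ∀ i : ι, (ex i % p ^ 1 = c.val % p ^ 1 ↔ ((ex i : ℕ) : ZMod p) = c) := by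
      intro i
      conv_rhs => rw [← ZMod.natCast_zmod_val c, ZMod.natCast_eq_natCast_iff']
      rw [pow_one]
    rw [Nat.card_congr (Equiv.subtypeEquivRight h1)]
    exact h

theorem zpow_toNat {k : Type*} [Field k] {ζ : k} {N : ℕ} (hN : 0 < N) (hζ : IsPrimitiveRoot ζ N) (a : ℤ) :
    ζ ^ (a % (N : ℤ)).toNat = ζ ^ a := by
  have h0 : (0 : ℤ) ≤ a % (N : ℤ) := Int.emod_nonneg _ (by exact_mod_cast hN.ne')
  have hz0 : ζ ≠ 0 := hζ.ne_zero hN.ne'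
  rw [← zpow_natCast, Int.toNat_of_nonneg h0]
  conv_rhs => rw [← Int.emod_add_mul_ediv a N]
  rw [zpow_add₀ hz0, zpow_mul, zpow_natCast, hζ.pow_eq_one, one_zpow, mul_one]

theorem cast_toNat {r N : ℕ} (hN : 0 < N) (hr : r ∣ N) (a : ℤ) :
    (((a % (N : ℤ)).toNat : ℕ) : ZMod r) = ((a : ℤ) : ZMod r) := by
  have h0 : (0 : ℤ) ≤ a % (N : ℤ) := Int.emod_nonneg _ (by exact_mod_cast hN.ne')
  have h1 : (((a % (N : ℤ)).toNat : ℕ) : ZMod r) = ((((a % (N : ℤ)).toNat : ℕ) : ℤ) : ZMod r) := by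
    rw [Int.cast_natCast]
  rw [h1, Int.toNat_of_nonneg h0]
  conv_rhs => rw [← Int.emod_add_mul_ediv a N]
  have h2 : ((N : ℤ) : ZMod r) = 0 := by
    rw [Int.cast_natCast, ZMod.natCast_eq_zero_iff]
    exact hr
  rw [Int.cast_add, Int.cast_mul, h2, zero_mul, add_zero]

/-- `∑_{j<n} Q^(n-j) L(R^j x)` -/
def psi {l : ℕ} (R : Module.End ℤ (Fin l → ℤ)) (Q : ℤ) (n : ℕ) (L : (Fin l → ℤ) →+ ℤ) (x : Fin l → ℤ) : ℤ :=
  ∑ j ∈ Finset.range n, Q ^ (n - j) * L ((R ^ j) x)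

section Mat

variable {D : ChevalleyDatum} {l : ℕ} {M : CoxeterMatrix (Fin l)} (hp : IsType D l M) {k : Type u} [Field k]

/-- the matrix of an element -/
abbrev mt (y : ↥(D.group k)) : Matrix D.Idx D.Idx k := ((y : GL D.Idx k) : Matrix D.Idx D.Idx k)

theorem charpoly_conj (z t : ↥(D.group k)) : (mt (z * t * z⁻¹)).charpoly = (mt t).charpoly := by
  have h := Matrix.charpoly_units_conj (z : GL D.Idx k) (mt t)
  rw [mt, Subgroup.coe_mul, Subgroup.coe_mul, Units.val_mul, Units.val_mul, Subgroup.coe_inv, Matrix.coe_units_inv]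
  exact h

include hp in
theorem charpoly_TT {t : ↥(D.group k)} (ht : t ∈ TT D k) :
    (mt t).charpoly = ∏ i : D.Idx, (Polynomial.X - Polynomial.C
      (Sum.elim (fun _ => (1 : k)) (fun s : Fin D.nroots => cX hp t (vec D l s)) i)) := by
  rw [mt, H83.RootCount.coe_eq_diagonal hp ht, Matrix.charpoly_diagonal]

end Mat

section Elt

variable {D : ChevalleyDatum} {l : ℕ} {M : CoxeterMatrix (Fin l)} (hp : IsType D l M) {k : Type u} [Field k]
  {W : Type*} [Group W] (cs : CoxeterSystem M W)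
  {p e : ℕ} [Fact p.Prime] [CharP k p] {σ : MulAut ↥(D.group k)} {g : (Fin l → ℤ) ≃+ (Fin l → ℤ)}
  {X : Type v} [Group X] {e0 : X →* ↥(D.group k)} {d : ℕ} (S : Setup hp cs p e σ g e0 d)

include S

/-- **Elements of a twisted torus and their eigenvalues.** -/
theorem exists_eig' [IsAlgClosed k] [Finite W] {ε : ℤ} (hε : ε = 1 ∨ ε = -1) {w1 : W} (hT : HasTor hp cs g ε w1)
    {n : ℕ} (hw : rep cs hp.isCartan w1 ^ n = 1) {Q : ℤ} (hQ : Q = ε * (p ^ e : ℕ)) {r m : ℕ} (hr : r.Prime)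
    (hrp : r ≠ p) (hrd : ¬ r ∣ d) (hm : ((r ^ m : ℕ) : ℤ) ∣ Q ^ n - 1) (L : (Fin l → ℤ) →+ ℤ) :
    ∃ (x : X) (ζ : k) (ex : D.Idx → ℕ), IsPrimitiveRoot ζ (r ^ m) ∧
      (mt (e0 x)).charpoly = ∏ i, (Polynomial.X - Polynomial.C (ζ ^ ex i)) ∧
      (∀ i, ex (Sum.inl i) = 0) ∧ ∀ s : Fin D.nroots, ex (Sum.inr s) =
        (((Q ^ n + 1) * psi (rep cs hp.isCartan w1) Q n L (vec D l s)) % ((r ^ m : ℕ) : ℤ)).toNat := by
  have hrk : (r : k) ≠ 0 := by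
    rw [Ne, CharP.cast_eq_zero_iff k p]
    intro h
    exact hrp ((Nat.prime_dvd_prime_iff_eq (Fact.out : p.Prime) hr).1 h).symm
  have hmk : ((r ^ m : ℕ) : k) ≠ 0 := by rw [Nat.cast_pow]; exact pow_ne_zero _ hrk
  have hN0 : 0 < r ^ m := pow_pos hr.pos _
  obtain ⟨w, h⟩ := hT
  obtain ⟨n', hn'⟩ := exists_rp cs (S.nsys hp cs) w
  obtain ⟨z, hz⟩ := lang_all hp cs S.pos S.frob S.fr 1 n'
  rw [map_one, one_mul] at hz
  have hmq : ((r ^ m : ℕ) : ℤ) ∣ ((p ^ e : ℕ) : ℤ) ^ (2 * n) - 1 := by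
    have h1 : ((p ^ e : ℕ) : ℤ) ^ (2 * n) = Q ^ (2 * n) := by rw [hQ, mul_pow, eps_pow_two hε, one_mul]
    rw [h1]
    exact hm.trans ⟨Q ^ n + 1, by ring⟩
  have hθ : ∀ x, (theta hp cs w g)^[2 * n] x = x := fun x => by
    rw [theta_iter hp cs h, eps_pow_two hε, one_smul, mul_comm, pow_mul, hw, one_pow, Module.End.one_apply]
  obtain ⟨B, d', hd', hB⟩ := S.inv
  obtain ⟨ζ, hζ, hz0, hchar⟩ := exists_char hp hB hd' (q := p ^ e) (n := 2 * n) hθ hmk hmq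
  obtain ⟨t, ht, h1, h2, h3⟩ := hchar L
  obtain ⟨x, hx⟩ := S.exists_of_tau hp cs hz ((tau_iff hp cs S.lf S.frob S.fr hn' ht).2 h1) hr hrd ⟨m, h2⟩
  have hx' : e0 x = z * t * z⁻¹ := by rw [← hx]; group
  refine ⟨x, ζ, Sum.elim (fun _ => 0) (fun s => (Lq L (theta hp cs w g) (p ^ e) (2 * n) (vec D l s) %
    ((r ^ m : ℕ) : ℤ)).toNat), hζ, ?_, fun _ => rfl, fun s => ?_⟩
  · rw [hx', charpoly_conj, charpoly_TT hp ht]
    refine Finset.prod_congr rfl fun i _ => ?_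
    rcases i with i | s
    · simp
    · simp only [Sum.elim_inr]
      rw [h3, zpow_toNat hN0 hζ]
  · simp only [Sum.elim_inr]
    rw [Lq_eq hp cs hε h hw _ hQ]
    rfl

/-- **Elements of a twisted torus and their eigenvalues**, exponents modulo `r`. -/
theorem exists_eig [IsAlgClosed k] [Finite W] {ε : ℤ} (hε : ε = 1 ∨ ε = -1) {w1 : W} (hT : HasTor hp cs g ε w1)
    {n : ℕ} (hw : rep cs hp.isCartan w1 ^ n = 1) {Q : ℤ} (hQ : Q = ε * (p ^ e : ℕ)) {r m : ℕ} (hr : r.Prime)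
    (hrp : r ≠ p) (hrd : ¬ r ∣ d) (hm0 : m ≠ 0) (hm : ((r ^ m : ℕ) : ℤ) ∣ Q ^ n - 1) (L : (Fin l → ℤ) →+ ℤ) :
    ∃ (x : X) (ζ : k) (ex : D.Idx → ℕ), IsPrimitiveRoot ζ (r ^ m) ∧
      (mt (e0 x)).charpoly = ∏ i, (Polynomial.X - Polynomial.C (ζ ^ ex i)) ∧
      (∀ i, ex (Sum.inl i) = 0) ∧ ∀ s : Fin D.nroots, ((ex (Sum.inr s) : ℕ) : ZMod r) =
        2 * ((psi (rep cs hp.isCartan w1) Q n L (vec D l s) : ℤ) : ZMod r) := by
  obtain ⟨x, ζ, ex, h1, h2, h3, h4⟩ := exists_eig' hp cs S hε hT hw hQ hr hrp hrd hm L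
  have hN0 : 0 < r ^ m := pow_pos hr.pos _
  have hrN : r ∣ r ^ m := dvd_pow_self r hm0
  refine ⟨x, ζ, ex, h1, h2, h3, fun s => ?_⟩
  · rw [h4, cast_toNat hN0 hrN, Int.cast_mul]
    congr 1
    have h4 : (((Q ^ n - 1 : ℤ)) : ZMod r) = 0 := by
      rw [ZMod.intCast_zmod_eq_zero_iff_dvd]
      exact (Int.natCast_dvd_natCast.2 hrN).trans hm
    have h5 : (Q ^ n + 1 : ℤ) = (Q ^ n - 1) + 2 := by ring
    rw [h5, Int.cast_add, h4, zero_add]
    norm_num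

/-- **The elements with the first criterion.** -/
theorem exists_cnt [IsAlgClosed k] [Finite W] {ε : ℤ} (hε : ε = 1 ∨ ε = -1) {w1 : W} (hT : HasTor hp cs g ε w1)
    {n : ℕ} (hw : rep cs hp.isCartan w1 ^ n = 1) {Q : ℤ} (hQ : Q = ε * (p ^ e : ℕ)) {r m : ℕ} (hr : r.Prime)
    (hr2 : r ≠ 2) (hrp : r ≠ p) (hrd : ¬ r ∣ d) (hm2 : 2 ≤ m) (hm : ((r ^ m : ℕ) : ℤ) ∣ Q ^ n - 1)
    {L : (Fin l → ℤ) →+ ℤ} {c : ZMod r} (hc : c ≠ 0)
    (h : ¬ r ∣ Nat.card {s : Fin D.nroots // ((psi (rep cs hp.isCartan w1) Q n L (vec D l s) : ℤ) : ZMod r) = c}) :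
    ∃ (x : X) (ζ : k) (ex : D.Idx → ℕ), IsPrimitiveRoot ζ (r ^ m) ∧
      (mt (e0 x)).charpoly = ∏ i, (Polynomial.X - Polynomial.C (ζ ^ ex i)) ∧ Cnt r m ex := by
  have : Fact r.Prime := ⟨hr⟩
  obtain ⟨x, ζ, ex, h1, h2, h3, h4⟩ := exists_eig hp cs S hε hT hw hQ hr hrp hrd (by omega) hm L
  have h20 : (2 : ZMod r) ≠ 0 := by
    intro h0
    have h5 : ((2 : ℕ) : ZMod r) = 0 := by exact_mod_cast h0
    rw [ZMod.natCast_eq_zero_iff] at h5
    exact hr2 ((Nat.prime_dvd_prime_iff_eq hr Nat.prime_two).1 h5)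
  refine ⟨x, ζ, ex, h1, h2, cnt_of_mod hr hm2 (c := 2 * c) (mul_ne_zero h20 hc) ?_⟩
  have h6 : Nat.card {i : D.Idx // ((ex i : ℕ) : ZMod r) = 2 * c} = Nat.card {s : Fin D.nroots //
      ((psi (rep cs hp.isCartan w1) Q n L (vec D l s) : ℤ) : ZMod r) = c} := by
    symm
    refine Nat.card_congr (Equiv.ofBijective (fun s : {s : Fin D.nroots //
      ((psi (rep cs hp.isCartan w1) Q n L (vec D l s) : ℤ) : ZMod r) = c} =>
      (⟨Sum.inr s.1, by rw [h4, s.2]⟩ : {i : D.Idx // ((ex i : ℕ) : ZMod r) = 2 * c})) ⟨?_, ?_⟩)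
    · intro a b hab
      exact Subtype.ext (Sum.inr_injective (congrArg Subtype.val hab))
    · rintro ⟨i, hi⟩
      rcases i with i | s
      · exfalso
        rw [h3, Nat.cast_zero] at hi
        exact mul_ne_zero h20 hc hi.symm
      · refine ⟨⟨s, ?_⟩, rfl⟩
        rw [h4] at hi
        exact mul_left_cancel₀ h20 hi
  rw [h6]
  exact h

end Elt

end Cfsg.Agent.H406.HT
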