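import Cfsg.Agent.H406.HT.Count

/-!
# S4933, part (O): order 4 modulo 5 (helper406)

The counts modulo `5` are divisible by `5`: the second criterion for `m = 2`, the counts modulo `25` for `m ≥ 3`.

* `exists_two` : `r ^ 2`, the two criteria from an explicit table `TwoCk`.
-/

set_option autoImplicit false
set_option linter.unusedSectionVars false

namespace Cfsg.Agent.H406.HT

open CoxeterSystem Cfsg Cfsg.Lie Cfsg.Lie.ChevalleyDatum
open Cfsg.Agent.ChevalleyStructure Cfsg.Agent.ChevalleyStructure.Elts Cfsg.Agent.ChevalleyStructure.CoxeterGeom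
  Cfsg.Agent.ChevalleyStructure.CoxeterGeomTypes Cfsg.Agent.ChevalleyStructure.NPerm
open Cfsg.Agent.Tits.Roots Cfsg.Agent.Tits.Core Cfsg.Agent.Nodes Cfsg.Agent.Nodes.Reps Cfsg.Agent.Nodes.BNOf
  Cfsg.Agent.Nodes.RGDChev Cfsg.Agent.Nodes.Bruhat Cfsg.Agent.Nodes.SubComb Cfsg.Agent.Nodes.Coroot
open Cfsg.Agent.KFacts.RgdField Cfsg.Agent.KFacts.RgdChevCoord Cfsg.Agent.BpExc.TorCent Cfsg.Agent.BpExc.TorChev
open Cfsg.Agent.GpExc.Field Cfsg.Agent.BpExc.Tow Cfsg.Agent.BpExc.TowChev Cfsg.Agent.BpExc.Fr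
  Cfsg.Agent.BpExc.LangFr Cfsg.Agent.LangThm Cfsg.Agent.BpExc Cfsg.Agent.H129.TorusChar Cfsg.Agent.H129.TorusMain
open Cfsg.Agent.H630.Exc Cfsg.Agent.H234.HT Cfsg.Agent.H130.WeylCk Cfsg.Agent.H130.PolyL

universe u v

/-- the exponent modulo `N` -/
def exL (l : ℕ) (m : List (List ℤ)) (b : List ℤ) (n : ℕ) (N : ℕ) (Q0 : ℤ) (v : List ℤ) : ℕ :=
  ((2 * (Q0 * evL Q0 (gl l m b n v []))) % (N : ℤ)).toNat

/-- the check: the two criteria, `Q ≡ Q0` modulo `r ^ 2` -/
def TwoCk (D : ChevalleyDatum) (l : ℕ) (Al : List (List ℤ)) (word : List (Fin l)) (k n : ℕ)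
    (m : List (List ℤ)) (b : List ℤ) (r : ℕ) (Q0 : ℤ) (c c2 : ℕ) : Prop :=
  (m.length = l ∧ (∀ b ∈ m, b.length = l) ∧ b.length = l) ∧ (∀ i : Fin l, acn Al word k (bas l i) = m.getD i []) ∧
  (∀ i : Fin l, acn Al word (k * n) (bas l i) = bas l i) ∧ c % r ≠ 0 ∧ c2 % r ≠ 0 ∧
  (rootL D l).countP (fun v => exL l m b n (r ^ 2) Q0 v = c % r ^ 2) % r ≠ 0 ∧
  ((rootL D l).map (fun v => if exL l m b n (r ^ 2) Q0 v % r = c2 % r then exL l m b n (r ^ 2) Q0 v / r else 0)).sum % r ≠ 0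

instance decTwoCk (D : ChevalleyDatum) (l : ℕ) (Al : List (List ℤ)) (word : List (Fin l)) (k n : ℕ)
    (m : List (List ℤ)) (b : List ℤ) (r : ℕ) (Q0 : ℤ) (c c2 : ℕ) : Decidable (TwoCk D l Al word k n m b r Q0 c c2) := by
  unfold TwoCk
  infer_instance

section List

variable {D : ChevalleyDatum} {l : ℕ}

theorem sum_rootL (h : List ℤ → ℕ) :
    ∑ s : Fin D.nroots, h ((List.finRange l).map (vec D l s)) = ((rootL D l).map h).sum := by
  rw [rootL, List.map_map, Fin.sum_univ_eq_sum_range (fun s => h ((List.finRange l).map (vec D l s))) D.nroots]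
  generalize D.nroots = n
  induction n with
  | zero => rfl
  | succ n ih => rw [Finset.sum_range_succ, ih, List.range_succ, List.map_append, List.sum_append]; simp

theorem card_rootL (P : List ℤ → Prop) [DecidablePred P] :
    Nat.card {s : Fin D.nroots // P ((List.finRange l).map (vec D l s))} = (rootL D l).countP (fun v => decide (P v)) := by
  rw [Nat.card_eq_fintype_card, Fintype.card_subtype, Finset.card_filter,
    sum_rootL (D := D) (l := l) (fun v => if P v then 1 else 0), List.countP_eq_length_filter]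
  induction rootL D l with
  | nil => rfl
  | cons v L ih =>
    rw [List.map_cons, List.sum_cons, ih]
    by_cases hv : P v
    · rw [if_pos hv, List.filter_cons_of_pos (by simpa using hv), List.length_cons, Nat.add_comm]
    · rw [if_neg hv, List.filter_cons_of_neg (by simpa using hv), Nat.zero_add]

end List

section Elt

variable {D : ChevalleyDatum} {l : ℕ} {M : CoxeterMatrix (Fin l)} (hp : IsType D l M) {k' : Type u} [Field k']
  {W : Type*} [Group W] (cs : CoxeterSystem M W)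
  {p e : ℕ} [Fact p.Prime] [CharP k' p] {σ : MulAut ↥(D.group k')} {g : (Fin l → ℤ) ≃+ (Fin l → ℤ)}
  {X : Type v} [Group X] {e0 : X →* ↥(D.group k')} {d : ℕ} (S : Setup hp cs p e σ g e0 d)

include S

/-- **The elements, from a table modulo `r ^ 2`.** -/
theorem exists_two [IsAlgClosed k'] [Finite W] {ε : ℤ} (hε : ε = 1 ∨ ε = -1) {Al : List (List ℤ)}
    (hA : MatList (cartanOf D l) Al) {word : List (Fin l)} {k : ℕ} (hT : HasTor hp cs g ε (cs.wordProd word ^ k))
    {n : ℕ} {Q : ℤ} (hQ : Q = ε * (p ^ e : ℕ)) {r m' : ℕ} (hr : r.Prime) (hr5 : 5 ≤ r)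
    (hrp : r ≠ p) (hrd : ¬ r ∣ d) (hm2 : 2 ≤ m') (hm : ((r ^ m' : ℕ) : ℤ) ∣ Q ^ n - 1)
    {m : List (List ℤ)} {b : List ℤ} {Q0 : ℤ} {c c2 : ℕ} (H : TwoCk D l Al word k n m b r Q0 c c2)
    (hQ0 : ((r ^ 2 : ℕ) : ℤ) ∣ Q - Q0) :
    ∃ (x : X) (ζ : k') (ex : D.Idx → ℕ), IsPrimitiveRoot ζ (r ^ m') ∧
      (mt (e0 x)).charpoly = ∏ i, (Polynomial.X - Polynomial.C (ζ ^ ex i)) ∧ Cnt r m' ex := by
  obtain ⟨⟨h1, h2, h3⟩, h4, h5, h6, h6', h7, h8⟩ := H
  have hw := rep_pow_eq_one hp cs hA word k n h5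
  obtain ⟨x, ζ, ex, g1, g2, g3, g4⟩ := exists_eig' hp cs S hε hT hw hQ hr hrp hrd hm (fn l b).toAddMonoidHom
  refine ⟨x, ζ, ex, g1, g2, ?_⟩
  have hrpos := hr.pos
  have hr2 : 0 < r ^ 2 := pow_pos hrpos 2
  have hrm : r ^ 2 ∣ r ^ m' := pow_dvd_pow r hm2
  have hrm0 : 0 < r ^ m' := pow_pos hrpos m'
  -- the exponents modulo `r ^ 2`
  have key : ∀ s : Fin D.nroots, ex (Sum.inr s) % r ^ 2 = exL l m b n (r ^ 2) Q0 ((List.finRange l).map (vec D l s)) := by
    intro s
    have hvl : ((List.finRange l).map (vec D l s)).length = l := by rw [List.length_map, List.length_finRange]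
    obtain ⟨v, hv⟩ : ∃ v, v = (List.finRange l).map (vec D l s) := ⟨_, rfl⟩
    rw [← hv] at hvl ⊢
    have h9 := eval_gl h1 h2 (rep_single hp cs hA word k h4) h3 Q n v [] hvl
    rw [ofL, Polynomial.eval_zero, mul_zero, add_zero, eval_ofL, hv, toFn_root, ← hv] at h9
    have h10 : psi (rep cs hp.isCartan (cs.wordProd word ^ k)) Q n (fn l b).toAddMonoidHom (vec D l s) =
        Q * evL Q (gl l m b n v []) := by
      rw [h9, Finset.mul_sum]
      unfold psi
      refine Finset.sum_congr rfl fun j hj => ?_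
      rw [Finset.mem_range] at hj
      have h11 : Q ^ (n - j) = Q * Q ^ (n - 1 - j) := by
        rw [← pow_succ']
        congr 1
        omega
      rw [h11, mul_assoc]
      rfl
    have h12 : ((r ^ 2 : ℕ) : ℤ) ∣ (Q ^ n + 1) * psi (rep cs hp.isCartan (cs.wordProd word ^ k)) Q n
        (fn l b).toAddMonoidHom (vec D l s) - 2 * (Q0 * evL Q0 (gl l m b n v [])) := by
      rw [h10]
      have e : (Q ^ n + 1) * (Q * evL Q (gl l m b n v [])) - 2 * (Q0 * evL Q0 (gl l m b n v [])) =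
          (Q ^ n - 1) * (Q * evL Q (gl l m b n v [])) + ((Q - Q0) * (2 * evL Q (gl l m b n v [])) +
          (evL Q (gl l m b n v []) - evL Q0 (gl l m b n v [])) * (2 * Q0)) := by ring
      rw [e]
      exact dvd_add (((Int.natCast_dvd_natCast.2 hrm).trans hm).mul_right _)
        (dvd_add (hQ0.mul_right _) ((evL_mod hQ0 _).mul_right _))
    rw [g4]
    have h13 : ((((Q ^ n + 1) * psi (rep cs hp.isCartan (cs.wordProd word ^ k)) Q n (fn l b).toAddMonoidHom
        (vec D l s)) % ((r ^ m' : ℕ) : ℤ)).toNat : ℤ) % ((r ^ 2 : ℕ) : ℤ) = (exL l m b n (r ^ 2) Q0 v : ℤ) := by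
      rw [Int.toNat_of_nonneg (Int.emod_nonneg _ (by exact_mod_cast hrm0.ne')),
        Int.emod_emod_of_dvd _ (Int.natCast_dvd_natCast.2 hrm), exL,
        Int.toNat_of_nonneg (Int.emod_nonneg _ (by exact_mod_cast hr2.ne'))]
      exact Int.emod_eq_emod_iff_emod_sub_eq_zero.2 (Int.emod_eq_zero_of_dvd h12)
    exact_mod_cast h13
  have hc : ¬ r ∣ c := fun h => h6 (Nat.mod_eq_zero_of_dvd h)
  have hc2 : ¬ r ∣ c2 := fun h => h6' (Nat.mod_eq_zero_of_dvd h)
  rcases Nat.lt_or_ge 2 m' with hlt | hge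
  · refine cnt_of_pow hr two_ne_zero hlt hc ?_
    have h9 : Nat.card {i : D.Idx // ex i % r ^ 2 = c % r ^ 2} = Nat.card {s : Fin D.nroots //
        exL l m b n (r ^ 2) Q0 ((List.finRange l).map (vec D l s)) = c % r ^ 2} := by
      symm
      refine Nat.card_congr (Equiv.ofBijective (fun s : {s : Fin D.nroots //
        exL l m b n (r ^ 2) Q0 ((List.finRange l).map (vec D l s)) = c % r ^ 2} =>
        (⟨Sum.inr s.1, by rw [key, s.2]⟩ : {i : D.Idx // ex i % r ^ 2 = c % r ^ 2})) ⟨?_, ?_⟩)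
      · intro a b hab
        exact Subtype.ext (Sum.inr_injective (congrArg Subtype.val hab))
      · rintro ⟨i, hi⟩
        rcases i with i | s
        · exfalso
          rw [g3, Nat.zero_mod] at hi
          exact hc ((dvd_pow_self r two_ne_zero).trans (Nat.dvd_of_mod_eq_zero hi.symm))
        · refine ⟨⟨s, ?_⟩, rfl⟩
          rw [key] at hi
          exact hi
    rw [h9, card_rootL (D := D) (l := l) (fun v => exL l m b n (r ^ 2) Q0 v = c % r ^ 2)]
    exact fun h => h7 (Nat.mod_eq_zero_of_dvd h)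
  · obtain rfl : m' = 2 := le_antisymm hge hm2
    have key' : ∀ s : Fin D.nroots, ex (Sum.inr s) = exL l m b n (r ^ 2) Q0 ((List.finRange l).map (vec D l s)) := by
      intro s
      rw [← key, Nat.mod_eq_of_lt]
      rw [g4]
      have h9 := Int.emod_lt_of_pos ((Q ^ n + 1) * psi (rep cs hp.isCartan (cs.wordProd word ^ k)) Q n
        (fn l b).toAddMonoidHom (vec D l s)) (show (0 : ℤ) < ((r ^ 2 : ℕ) : ℤ) by exact_mod_cast hr2)
      have h10 := Int.emod_nonneg ((Q ^ n + 1) * psi (rep cs hp.isCartan (cs.wordProd word ^ k)) Q n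
        (fn l b).toAddMonoidHom (vec D l s)) (show ((r ^ 2 : ℕ) : ℤ) ≠ 0 by exact_mod_cast hr2.ne')
      omega
    refine ⟨c2, hc2, Or.inr ⟨hr5, ?_⟩⟩
    have h21 : 2 - 1 = 1 := rfl
    rw [h21, pow_one, Finset.sum_filter, Fintype.sum_sum_type]
    have h9 : ∑ i : Fin D.rank, (if ex (Sum.inl i) % r = c2 % r then ex (Sum.inl i) / r else 0) = 0 := by
      refine Finset.sum_eq_zero fun i _ => ?_
      rw [g3, Nat.zero_div, ite_self]
    have h10 : ∑ s : Fin D.nroots, (if ex (Sum.inr s) % r = c2 % r then ex (Sum.inr s) / r else 0) =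
        ((rootL D l).map (fun v => if exL l m b n (r ^ 2) Q0 v % r = c2 % r then exL l m b n (r ^ 2) Q0 v / r
          else 0)).sum := by
      rw [← sum_rootL]
      exact Finset.sum_congr rfl fun s _ => by rw [key']
    rw [h9, h10, zero_add]
    exact fun h => h8 (Nat.mod_eq_zero_of_dvd h)

end Elt

end Cfsg.Agent.H406.HT
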